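import Mathlib

/-!
Truncation of power series and powers of the augmentation ideal.
-/

universe u

namespace Groth.Agent.MvPSTrunc

open MvPowerSeries Finsupp

/-- A power series of order `≥ M` lies in the `M`-th power of the augmentation ideal. -/
theorem mem_pow_ker_constantCoeff {A : Type u} [CommRing A] {n : ℕ} : ∀ (M : ℕ)
    (r : MvPowerSeries (Fin n) A), (∀ d, degree d < M → coeff d r = 0) →
      r ∈ RingHom.ker (MvPowerSeries.constantCoeff : MvPowerSeries (Fin n) A →+* A) ^ M := by
  intro M
  induction M with
  | zero => intro r _; simp
  | succ M ih =>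
      intro r hr
      classical
      let q : Fin n → MvPowerSeries (Fin n) A := fun i e =>
        if ∀ j < i, e j = 0 then coeff (e + single i 1) r else 0
      have hqc : ∀ i e, coeff e (q i) = if ∀ j < i, e j = 0 then coeff (e + single i 1) r else 0 :=
        fun i e => rfl
      have hq : r = ∑ i, X i * q i := by
        ext d
        rw [map_sum]
        have hX : ∀ i, coeff d (X i * q i) =
            if single i 1 ≤ d then coeff (d - single i 1) (q i) else 0 := fun i => by
          rw [X_def, coeff_monomial_mul, one_mul]
        simp only [hX]
        by_cases hd : d = 0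
        · subst hd
          rw [hr 0 (by simp), Finset.sum_eq_zero]
          intro i _
          rw [if_neg]
          simp
        · let S := (Finset.univ : Finset (Fin n)).filter fun i => d i ≠ 0
          have hS : S.Nonempty := by
            obtain ⟨i, hi⟩ := Finsupp.ne_iff.mp hd
            exact ⟨i, by simpa [S] using hi⟩
          set i₀ := S.min' hS with hi₀
          have hdi₀ : d i₀ ≠ 0 := (Finset.mem_filter.mp (S.min'_mem hS)).2
          have hlt : ∀ j < i₀, d j = 0 := fun j hj => by
            by_contra h
            exact absurd (S.min'_le j (by simp [S, h])) (not_le.mpr hj)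
          rw [Finset.sum_eq_single i₀ ?_ (fun h => absurd (Finset.mem_univ _) h)]
          · have h1 : single i₀ 1 ≤ d := Finsupp.single_le_iff.mpr (Nat.one_le_iff_ne_zero.mpr hdi₀)
            rw [if_pos h1, hqc, if_pos, tsub_add_cancel_of_le h1]
            intro j hj
            simp [hlt j hj]
          · intro i _ hi
            by_cases h1 : single i 1 ≤ d
            · rw [if_pos h1, hqc, if_neg]
              intro hall
              have hdi : d i ≠ 0 := Nat.one_le_iff_ne_zero.mp (Finsupp.single_le_iff.mp h1)
              have : i₀ < i := lt_of_le_of_ne (S.min'_le i (by simp [S, hdi])) (Ne.symm hi)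
              have := hall i₀ this
              rw [Finsupp.tsub_apply, Finsupp.single_eq_of_ne (ne_of_lt ‹i₀ < i›), tsub_zero] at this
              exact hdi₀ this
            · rw [if_neg h1]
      rw [hq, pow_succ']
      refine Ideal.sum_mem _ fun i _ => Ideal.mul_mem_mul ?_ (ih _ fun e he => ?_)
      · rw [RingHom.mem_ker, constantCoeff_X]
      · rw [hqc]
        split_ifs with h
        · refine hr _ ?_
          rw [map_add, degree_single]
          omega
        · rfl

theorem sub_truncTotal_mem {A : Type u} [CommRing A] {n : ℕ} (M : ℕ) (p : MvPowerSeries (Fin n) A) :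
    p - ((truncTotal M p : MvPolynomial (Fin n) A) : MvPowerSeries (Fin n) A) ∈
      RingHom.ker (MvPowerSeries.constantCoeff : MvPowerSeries (Fin n) A →+* A) ^ M := by
  refine mem_pow_ker_constantCoeff M _ fun d hd => ?_
  rw [map_sub, MvPolynomial.coeff_coe, coeff_truncTotal _ hd, sub_self]

end Groth.Agent.MvPSTrunc
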